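import Groth.Agent.ArtFunLib.QuotLift.Family

/-!
# Extending quotients along surjections of Artinian algebras over a base
-/

set_option autoImplicit false
set_option backward.isDefEq.respectTransparency false
set_option backward.isDefEq.respectTransparency.types false
set_option linter.style.haveILetI false
set_option linter.unusedSectionVars false

universe u

open CategoryTheory CategoryTheory.Limits AlgebraicGeometry Function IsLocalRing ArtFun
open Groth.Agent.ArtFunLib Groth.Agent.ArtFunLib.QuotLift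

noncomputable section

namespace Groth.Agent.QuotRel29

variable {k : Type u} [Field k] {X S : Scheme.{u}} (x : X ⟶ S) (E : X.Modules)

/-- The morphism of test objects. -/
abbrev gB {B A : Art k k} {b : Art.spec B ⟶ S} {a₁ : Art.spec A ⟶ S} (p : B ⟶ A) (h : Art.specMap p ≫ b = a₁) :
    Over.mk a₁ ⟶ Over.mk b :=
  Over.homMk (Art.specMap p) h

theorem gB_comp {C B A : Art k k} {c : Art.spec C ⟶ S} {b : Art.spec B ⟶ S} {a₁ : Art.spec A ⟶ S} (p : C ⟶ B)
    (q : B ⟶ A) (h : Art.specMap p ≫ c = b) (h' : Art.specMap q ≫ b = a₁) (h'' : Art.specMap (p ≫ q) ≫ c = a₁) :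
    gB (p ≫ q) h'' = gB q h' ≫ gB p h :=
  Over.OverMorphism.ext (Art.specMap_comp p q)

instance isLocallyNoetherian_mk {A : Art k k} (a₁ : Art.spec A ⟶ S) : IsLocallyNoetherian (Over.mk a₁).left :=
  inferInstanceAs (IsLocallyNoetherian (Spec (CommRingCat.of A)))

/-- The closed fibre of a family. -/
def fibreR {A : Art k k} {a₁ : Art.spec A ⟶ S} {s : Art.spec (Art.base k k) ⟶ S}
    (ha : Art.specMap (Art.toBase A) ≫ a₁ = s) (K : Subobject (FGA.ET x E (Over.mk a₁))) :
    Subobject (FGA.ET x E (Over.mk s)) :=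
  FGA.quotPull x E (gB (Art.toBase A) ha) K

theorem fibreR_pull {B A : Art k k} {b : Art.spec B ⟶ S} {a₁ : Art.spec A ⟶ S} {s : Art.spec (Art.base k k) ⟶ S}
    (p : B ⟶ A) (h : Art.specMap p ≫ b = a₁) (hb : Art.specMap (Art.toBase B) ≫ b = s)
    (ha : Art.specMap (Art.toBase A) ≫ a₁ = s) (K : Subobject (FGA.ET x E (Over.mk b))) :
    fibreR x E ha (FGA.quotPull x E (gB p h) K) = fibreR x E hb K := by
  unfold fibreR
  rw [← Quot8.quotPull_comp]
  congr 1
  exact Over.OverMorphism.ext ((Art.specMap_comp _ _).symm.trans (congrArg Art.specMap (toBase_comp p)))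

theorem isPullback_XT {B A : Art k k} {b : Art.spec B ⟶ S} {a₁ : Art.spec A ⟶ S} (p : B ⟶ A)
    (h : Art.specMap p ≫ b = a₁) :
    IsPullback (PicF.XTmap x (gB p h)) (PicF.XTproj x (Over.mk a₁)) (PicF.XTproj x (Over.mk b))
      (Spec.map (CommRingCat.ofHom p.toAlgHom.toRingHom)) :=
  FlatMor12.FlatFun.isPullback_XTmap x (gB p h)

theorem isClosedImmersion_XTmap {B A : Art k k} {b : Art.spec B ⟶ S} {a₁ : Art.spec A ⟶ S} (p : B ⟶ A)
    (h : Art.specMap p ≫ b = a₁) (hp : Function.Surjective p) : IsClosedImmersion (PicF.XTmap x (gB p h)) :=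
  haveI : IsClosedImmersion (Spec.map (CommRingCat.ofHom p.toAlgHom.toRingHom)) :=
    IsClosedImmersion.spec_of_surjective _ hp
  MorphismProperty.of_isPullback (P := @IsClosedImmersion) (isPullback_XT x p h).flip inferInstance

theorem surjective_XTmap {B A : Art k k} {b : Art.spec B ⟶ S} {a₁ : Art.spec A ⟶ S} (p : B ⟶ A)
    (h : Art.specMap p ≫ b = a₁) : Function.Surjective (PicF.XTmap x (gB p h)) := by
  intro w
  let i := Spec.map (CommRingCat.ofHom p.toAlgHom.toRingHom)
  let e := (isPullback_XT x p h).isoPullback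
  haveI : Subsingleton ↥(Over.mk b).left := inferInstanceAs (Subsingleton (PrimeSpectrum B))
  obtain ⟨v, hv⟩ : w ∈ Set.range (pullback.fst (PicF.XTproj x (Over.mk b)) i) := by
    rw [Scheme.Pullback.range_fst]
    obtain ⟨y⟩ : Nonempty (Spec (CommRingCat.of A)) := inferInstanceAs (Nonempty (PrimeSpectrum A))
    exact ⟨y, Subsingleton.elim _ _⟩
  refine ⟨e.inv v, ?_⟩
  rw [← Scheme.Hom.comp_apply, IsPullback.isoPullback_inv_fst]
  exact hv

variable (hEflat : FlatMod.IsFlatOver x E)

include hEflat in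
theorem stFree_ET {A : Art k k} (a₁ : Art.spec A ⟶ S) :
    StFree (PicF.XTproj x (Over.mk a₁)) (FGA.ET x E (Over.mk a₁)) := by
  intro w
  have h1 := Desc19b.isFlatOverAt_baseChange x (PicF.XTproj x (Over.mk a₁)) (pullback.fst x (Over.mk a₁).hom)
    (Over.mk a₁).hom (IsPullback.of_hasPullback x (Over.mk a₁).hom) E w (hEflat _)
  letI := baseMod (PicF.XTproj x (Over.mk a₁)) (FGA.ET x E (Over.mk a₁)) w
  haveI : Module.Flat A (St (FGA.ET x E (Over.mk a₁)) w) := (isFlatOverAt_iff_flat (R := A) _ _ w).1 h1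
  exact CAlgH3.free_of_flat_artinian (A := A) _

theorem flat_of_stFree {A : Art k k} {a₁ : Art.spec A ⟶ S} {Q : (PicF.XT x (Over.mk a₁)).Modules}
    (h : StFree (PicF.XTproj x (Over.mk a₁)) Q) : FlatMod.IsFlatOver (PicF.XTproj x (Over.mk a₁)) Q := by
  intro w
  refine (isFlatOverAt_iff_flat (R := A) _ _ w).2 ?_
  letI := baseMod (PicF.XTproj x (Over.mk a₁)) Q w
  haveI : Module.Free A (St Q w) := h w
  infer_instance

variable {B A : Art k k} {b : Art.spec B ⟶ S} {a₁ : Art.spec A ⟶ S} (p : B ⟶ A) (h : Art.specMap p ≫ b = a₁)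
  {s : Art.spec (Art.base k k) ⟶ S} (hb : Art.specMap (Art.toBase B) ≫ b = s)
  (ha : Art.specMap (Art.toBase A) ≫ a₁ = s)
  (hp : Function.Surjective p) (K : Subobject (FGA.ET x E (Over.mk a₁)))

/-- The direct image of the quotient on the total space over `B`. -/
abbrev pushQ : (PicF.XT x (Over.mk b)).Modules :=
  (Scheme.Modules.pushforward (PicF.XTmap x (gB p h))).obj (cokernel K.arrow)

/-- The quotient of `E_B`. -/
def quotA : FGA.ET x E (Over.mk b) ⟶ pushQ x E p h K :=
  (Scheme.Modules.pullbackPushforwardAdjunction (PicF.XTmap x (gB p h))).homEquiv _ _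
    ((FGA.ETiso x E (gB p h)).hom ≫ cokernel.π K.arrow)

include hp in
theorem epi_quotA : Epi (quotA x E p h K) :=
  haveI := isClosedImmersion_XTmap x p h hp
  epi_adjoint (PicF.XTmap x (gB p h)) (surjective_XTmap x p h) ((FGA.ETiso x E (gB p h)).hom ≫ cokernel.π K.arrow)

theorem map_quotA_counit :
    (Scheme.Modules.pullback (PicF.XTmap x (gB p h))).map (quotA x E p h K) ≫
      (Scheme.Modules.pullbackPushforwardAdjunction (PicF.XTmap x (gB p h))).counit.app _ =
      (FGA.ETiso x E (gB p h)).hom ≫ cokernel.π K.arrow :=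
  ((Scheme.Modules.pullbackPushforwardAdjunction _).homEquiv_counit _ _ _).symm.trans
    (((Scheme.Modules.pullbackPushforwardAdjunction _).homEquiv _ _).symm_apply_apply _)

include hp in
theorem quotPull_kernel_quotA : FGA.quotPull x E (gB p h) (kernelSubobject (quotA x E p h K)) = K := by
  haveI := isClosedImmersion_XTmap x p h hp
  haveI := epi_quotA x E p h hp K
  haveI := DCat.ClosedPush.isIso_counit (PicF.XTmap x (gB p h)) (cokernel K.arrow)
  refine (Quot8.quotPull_kernelSubobject x E (gB p h) _).trans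
    ((kernelSubobject_eq_of_comp_eq ((Scheme.Modules.pullbackPushforwardAdjunction
      (PicF.XTmap x (gB p h))).counit.app (cokernel K.arrow)) ?_).trans (Quot8.kernelSubobject_cokernel K))
  rw [Quot8.bcQ_eq, Category.assoc, map_quotA_counit, Iso.inv_hom_id_assoc]

include hp hb in
/-- The closed fibre in terms of the quotient of `E_B`. -/
theorem exists_fibre_iso :
    Nonempty (((fibreR x E ha K : Subobject _) : (PicF.XT x (Over.mk s)).Modules) ≅
        kernel ((Scheme.Modules.pullback (PicF.XTmap x (gB (Art.toBase B) hb))).map (quotA x E p h K))) ∧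
      Nonempty (cokernel (fibreR x E ha K).arrow ≅
        (Scheme.Modules.pullback (PicF.XTmap x (gB (Art.toBase B) hb))).obj (pushQ x E p h K)) := by
  haveI := epi_quotA x E p h hp K
  have hfib : fibreR x E ha K = kernelSubobject (Quot8.bcQ x E (gB (Art.toBase B) hb) (quotA x E p h K)) := by
    rw [← Quot8.quotPull_kernelSubobject]
    conv_lhs => rw [← quotPull_kernel_quotA x E p h hp K]
    exact fibreR_pull x E p h hb ha _
  obtain ⟨i, -⟩ := Quot8.exists_cokernel_kernelSubobject_iso (Quot8.bcQ x E (gB (Art.toBase B) hb) (quotA x E p h K))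
  rw [hfib]
  refine ⟨⟨kernelSubobjectIso _ ≪≫ ?_⟩, ⟨i⟩⟩
  exact kernel.mapIso _ _ (FGA.ETiso x E (gB (Art.toBase B) hb)).symm (Iso.refl _)
    (by simp [Quot8.bcQ_eq])

variable [LocallyOfFiniteType x] [IsLocallyNoetherian X]

theorem isCoh_ET (hE : Coh.IsCoh E) {C : Art k k} (c : Art.spec C ⟶ S) : Coh.IsCoh (FGA.ET x E (Over.mk c)) := by
  haveI : IsLocallyNoetherian (PicF.XT x (Over.mk c)) := Quot8.isLocallyNoetherian_XT x
  exact ZClosLib.isCoh_pullback _ _ hE

include hp in
theorem stFreeMod_pushQ {t : B} (ht : RingHom.ker p.toAlgHom.toRingHom = Ideal.span {t})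
    (hflat : FlatMod.IsFlatOver (PicF.XTproj x (Over.mk a₁)) (cokernel K.arrow)) :
    StFreeMod (PicF.XTproj x (Over.mk b)) t (pushQ x E p h K) := fun w => by
  haveI := isClosedImmersion_XTmap x p h hp
  obtain ⟨z, rfl⟩ := surjective_XTmap x p h w
  rw [← ht]
  exact freeMod_push (PicF.XTproj x (Over.mk b)) (R' := A) hp (isPullback_XT x p h) _ hflat z

include hp hEflat in
/-- A family extends along a small extension. -/
theorem exists_extension_small (hE : Coh.IsCoh E) {t : B} (ht0 : t ≠ 0) (htm : t ∈ maximalIdeal B)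
    (hmt : ∀ a ∈ maximalIdeal B, a * t = 0) (ht : RingHom.ker p.toAlgHom.toRingHom = Ideal.span {t})
    (hK : Coh.IsCoh (cokernel K.arrow) ∧ FlatMod.IsFlatOver (PicF.XTproj x (Over.mk a₁)) (cokernel K.arrow))
    (hb : Art.specMap (Art.toBase B) ≫ b = s)
    (hsplit : Splits (cokernel (fibreR x E ha K).arrow) (fibreR x E ha K)) :
    ∃ K' : FGA.QuotSet x E (Over.mk b), FGA.quotPull x E (gB p h) K'.1 = K := by
  let π := PicF.XTproj x (Over.mk b)
  let σ := PicF.XTmap x (gB p h)
  let u := PicF.XTmap x (gB (Art.toBase B) hb)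
  let a := quotA x E p h K
  haveI hσc : IsClosedImmersion σ := isClosedImmersion_XTmap x p h hp
  haveI huc : IsClosedImmersion u := isClosedImmersion_XTmap x _ hb (surjective_toBase B)
  haveI : Epi a := epi_quotA x E p h hp K
  obtain ⟨⟨eK⟩, ⟨eQ⟩⟩ := exists_fibre_iso x E p h hb ha hp K
  have hM := stFreeMod_pushQ x E p h hp K ht hK.2
  obtain ⟨sw, φ, hφ, hfree, hker⟩ := exists_extension (R := B) π (surjective_toBase B) (ker_toBase B)
    (isPullback_XT x (Art.toBase B) hb) (surjective_XTmap x _ hb) ht0 htm hmt (stFree_ET x E hEflat b) a hM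
    (hsplit.of_iso eQ eK)
  haveI : IsLocallyNoetherian (PicF.XT x (Over.mk b)) := Quot8.isLocallyNoetherian_XT x
  haveI : IsLocallyNoetherian (PicF.XT x (Over.mk s)) := Quot8.isLocallyNoetherian_XT x
  haveI : IsLocallyNoetherian (PicF.XT x (Over.mk a₁)) := Quot8.isLocallyNoetherian_XT x
  have hEB := isCoh_ET x E hE b
  have hMc : Coh.IsCoh (pushQ x E p h K) := Coherent.Existence.isCoh_push_of_isProper σ hK.1
  have hPc : Coh.IsCoh (kernel a) := Coherent.isCoh_kernel a hEB hMc.1
  have hK'c : Coh.IsCoh (kernel sw) :=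
    Coherent.isCoh_kernel sw hPc (Coherent.Existence.isCoh_push_of_isProper u (ZClosLib.isCoh_pullback u _ hMc)).1
  let q := cokernel.π (kernel.ι sw ≫ kernel.ι a)
  refine ⟨Quot8.mkQuot x E q (Coherent.isCoh_cokernel _ hK'c.1 hEB) (flat_of_stFree x hfree), ?_⟩
  rw [Quot8.mkQuot_val, Quot8.quotPull_kernelSubobject]
  let ad := Scheme.Modules.pullbackPushforwardAdjunction σ
  haveI := DCat.ClosedPush.isIso_counit σ (cokernel K.arrow)
  let i := (Scheme.Modules.pullback σ).map φ ≫ ad.counit.app _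
  have hi : Quot8.bcQ x E (gB p h) q ≫ i = cokernel.π K.arrow := by
    rw [Quot8.bcQ_eq, Category.assoc, ← Functor.map_comp_assoc, hφ, map_quotA_counit x E p h K, Iso.inv_hom_id_assoc]
  haveI : Epi i := epi_of_epi_fac hi
  haveI : Mono i := Coherent.CohBC.mono_of_injective_stalks _ fun z => by
    refine (injective_iff_map_eq_zero (stk i z)).2 fun v hv => ?_
    obtain ⟨y, rfl⟩ := unitSt_surjective σ z _ v
    rw [stk_comp, unitSt_natural] at hv
    replace hv := (unitSt_eq_zero_iff σ z _ _).1 (injective_stk (ad.counit.app _) z (hv.trans (map_zero _).symm))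
    have h0 : stk φ (σ z) y = 0 := Submodule.smul_induction_on hv
      (fun r hr s _ => DCat.ClosedPush.smul_stalk_push σ _ z r hr s) fun a b ha hb => by rw [ha, hb, add_zero]
    obtain ⟨w, rfl⟩ := hker _ _ h0
    rw [unitSt_eq_zero_iff_base π hp (isPullback_XT x p h), ht]
    letI := baseMod π (cokernel (kernel.ι sw ≫ kernel.ι a)) (σ z)
    exact Submodule.smul_mem_smul (r := t) (Ideal.mem_span_singleton_self t) (Submodule.mem_top (x := w))
  haveI : IsIso i := isIso_of_mono_of_epi i
  exact (kernelSubobject_eq_of_comp_eq i hi).trans (Quot8.kernelSubobject_cokernel K)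

omit [LocallyOfFiniteType x] [IsLocallyNoetherian X] in
theorem toBase_comp_spec {B A : Art k k} (p : B ⟶ A) {b : Art.spec B ⟶ S} {a₁ : Art.spec A ⟶ S}
    (h : Art.specMap p ≫ b = a₁) {s : Art.spec (Art.base k k) ⟶ S} (ha : Art.specMap (Art.toBase A) ≫ a₁ = s) :
    Art.specMap (Art.toBase B) ≫ b = s := by
  rw [← ha, ← h, ← Category.assoc, ← Art.specMap_comp, toBase_comp]

include hEflat in
/-- Families extend along surjections. -/
theorem exists_extension_surjective (hE : Coh.IsCoh E) {B A : Art k k} (p : B ⟶ A) (hp : Function.Surjective p) :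
    ∀ (b : Art.spec B ⟶ S) (a₁ : Art.spec A ⟶ S) (h : Art.specMap p ≫ b = a₁) (s : Art.spec (Art.base k k) ⟶ S)
      (ha : Art.specMap (Art.toBase A) ≫ a₁ = s) (K : FGA.QuotSet x E (Over.mk a₁)),
      Splits (cokernel (fibreR x E ha K.1).arrow) (fibreR x E ha K.1) →
        ∃ K' : FGA.QuotSet x E (Over.mk b), FGA.quotPull x E (gB p h) K'.1 = K.1 := by
  refine surj_induction (fun A B (p : B ⟶ A) => ∀ (b : Art.spec B ⟶ S) (a₁ : Art.spec A ⟶ S)
    (h : Art.specMap p ≫ b = a₁) (s : Art.spec (Art.base k k) ⟶ S) (ha : Art.specMap (Art.toBase A) ≫ a₁ = s)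
    (K : FGA.QuotSet x E (Over.mk a₁)), Splits (cokernel (fibreR x E ha K.1).arrow) (fibreR x E ha K.1) →
      ∃ K' : FGA.QuotSet x E (Over.mk b), FGA.quotPull x E (gB p h) K'.1 = K.1) ?_ ?_ ?_ p hp
  · intro _ _ e he b a₁ h s ha K _
    have h' : Art.specMap (inv e) ≫ a₁ = b := by
      rw [← h, ← Category.assoc, ← Art.specMap_comp, IsIso.hom_inv_id, Art.specMap_id, Category.id_comp]
    haveI := Quot8.isLocallyNoetherian_XT x (T := Over.mk a₁)
    haveI := Quot8.isLocallyNoetherian_XT x (T := Over.mk b)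
    haveI := Quot8.epi_bcQ x E (gB (inv e) h') (cokernel.π K.1.arrow)
    refine ⟨Quot8.mkQuot x E (Quot8.bcQ x E (gB (inv e) h') (cokernel.π K.1.arrow))
      (ZClosLib.isCoh_pullback _ _ K.2.1)
      (fun z => Desc19b.isFlatOverAt_baseChange _ _ _ _ (FlatMor12.FlatFun.isPullback_XTmap x (gB (inv e) h')) _ z
        (K.2.2 _)), ?_⟩
    rw [Quot8.mkQuot_val, ← Quot8.quotPull_kernelSubobject, Quot8.kernelSubobject_cokernel, ← Quot8.quotPull_comp,
      show gB e h ≫ gB (inv e) h' = 𝟙 _ from Over.OverMorphism.ext (by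
        show Art.specMap e ≫ Art.specMap (inv e) = 𝟙 _
        rw [← Art.specMap_comp, IsIso.inv_hom_id, Art.specMap_id]), Quot8.quotPull_id]
  · intro _ _ q hq b a₁ h s ha K hK
    obtain ⟨t, ht0, htm, hmt, ht⟩ := smallExt_generator hq
    exact exists_extension_small x E hEflat q h ha hq.1 K.1 hE ht0 htm hmt ht K.2 (toBase_comp_spec q h ha) hK
  · intro _ _ _ q r hq hr ihq ihr c a₁ h s ha K hK
    have h1 : Art.specMap r ≫ Art.specMap q ≫ c = a₁ := by
      rw [← Category.assoc, ← Art.specMap_comp]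
      exact h
    obtain ⟨K₁, hK₁⟩ := ihr (Art.specMap q ≫ c) a₁ h1 s ha K hK
    have hmid := toBase_comp_spec r h1 ha
    rw [← hK₁, fibreR_pull x E r h1 hmid ha] at hK
    obtain ⟨K', hK'⟩ := ihq c _ rfl s hmid K₁ hK
    exact ⟨K', by rw [gB_comp q r rfl h1 h, Quot8.quotPull_comp, hK', hK₁]⟩

end Groth.Agent.QuotRel29

end
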