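import Groth.Agent.Quot8.QuotNoetherian

/-!
# The Quot scheme is locally of finite type
-/

set_option autoImplicit false
set_option linter.style.haveILetI false
set_option backward.isDefEq.respectTransparency false
set_option backward.isDefEq.respectTransparency.types false

universe u

open CategoryTheory CategoryTheory.Limits AlgebraicGeometry

noncomputable section

namespace Groth.Agent.QuotRel29

variable {S : Scheme.{u}} [AlgebraicGeometry.IsNoetherian S] {n : ℕ} {X : Scheme.{u}}
  (i : X ⟶ CohB1.ProjSpaceOver n S) [IsClosedImmersion i] {E : X.Modules}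

/-- Representing objects of the Quot functor are locally of finite type. -/
theorem locallyOfFiniteType_quot (hE : Coh.IsCoh E) {Q : Over S}
    {Ku : FGA.QuotSet (i ≫ CohB1.ProjSpaceOver.toBase n S) E Q}
    (hQ : FGA.QuotRepresentedBy (i ≫ CohB1.ProjSpaceOver.toBase n S) E Q Ku) : LocallyOfFiniteType Q.hom := by
  obtain ⟨Q', K', hQ', ι, P, e, hP⟩ := Quot8.exists_quot_noetherian i hE
  haveI := hQ.1
  haveI := hQ'.1
  obtain ⟨a, ha, -⟩ := hQ'.2 Q Ku
  obtain ⟨b, hb, -⟩ := hQ.2 Q' K'
  have hab : a ≫ b = 𝟙 Q := (hQ.2 Q Ku).unique (y₁ := a ≫ b) (y₂ := 𝟙 Q)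
    (by rw [Quot8.quotPull_comp, hb, ha]) (Quot8.quotPull_id _ _ _)
  have hba : b ≫ a = 𝟙 Q' := (hQ'.2 Q' K').unique (y₁ := b ≫ a) (y₂ := 𝟙 Q')
    (by rw [Quot8.quotPull_comp, ha, hb]) (Quot8.quotPull_id _ _ _)
  haveI : IsIso a.left :=
    ⟨b.left, by rw [← Over.comp_left, hab]; rfl, by rw [← Over.comp_left, hba]; rfl⟩
  have h : LocallyOfFiniteType (e.hom ≫ Q'.hom) := by
    refine IsZariskiLocalAtSource.of_openCover (P := @LocallyOfFiniteType) (sigmaOpenCover P) fun j => ?_
    haveI := hP j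
    exact inferInstanceAs (LocallyOfFiniteType (Limits.Sigma.ι P j ≫ e.hom ≫ Q'.hom))
  rw [← Over.w a]
  exact (MorphismProperty.cancel_left_of_respectsIso @LocallyOfFiniteType a.left Q'.hom).2
    ((MorphismProperty.cancel_left_of_respectsIso @LocallyOfFiniteType e.hom Q'.hom).1 h)

end Groth.Agent.QuotRel29

end
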