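import Groth.Agent.QuotRel29.Smooth
import Groth.Agent.Quot8.BaseChangeQuot
import Groth.Agent.Quot8.PnFamily
import Groth.Agent.Quot8.LocalRep
import Groth.Agent.LiftClass29.BaseChange
import Groth.Agent.Unram17Lib.RelDim
import Groth.Agent.VarietyLib.LocalDimPt
import Groth.Agent.VarietyLib.SmoothStalk
import Groth.Agent.DimLib.Points
import Mathlib.AlgebraicGeometry.AlgClosed.Basic
import Mathlib.CategoryTheory.Linear.Basic

/-!
# The relative dimension of a Quot scheme at a point without first extensions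
-/

set_option autoImplicit false
set_option backward.isDefEq.respectTransparency false
set_option backward.isDefEq.respectTransparency.types false
set_option linter.style.haveILetI false
set_option linter.unusedSectionVars false

universe u

open CategoryTheory CategoryTheory.Limits AlgebraicGeometry IsLocalRing ArtFun
open Groth.Agent.ArtFunLib Groth.Agent.ArtFunLib.QuotLift Groth.Agent.H8Coh.RatTangent

noncomputable section

namespace Groth.Agent.QuotRel29

variable {k : Type u} [Field k]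

/-- A smooth scheme of relative dimension `n` has cotangent spaces of dimension `n` at rational points. -/
theorem finrank_cotangentSpace_of_smooth [IsAlgClosed k] {Z : Scheme.{u}} (q : Z ⟶ Spec (CommRingCat.of k)) (n : ℕ)
    [SmoothOfRelativeDimension n q] (w : Spec (CommRingCat.of k) ⟶ Z) (hw : w ≫ q = 𝟙 _) :
    Module.finrank (ResidueField (Z.presheaf.stalk (w (closedPoint k))))
      (CotangentSpace (Z.presheaf.stalk (w (closedPoint k)))) = n := by
  haveI : Smooth q := SmoothOfRelativeDimension.smooth (n := n) q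
  have h1 := Unram17Lib.localDim_of_smoothOfRelativeDimension k q n (w (closedPoint k))
  rw [VarietyLib.localDim_eq_stalk_add_ptDim q, (DimLib.ptDim_eq_zero_iff q (w (closedPoint k))).2
    (pointEquivClosedPoint q ⟨w, hw⟩).2, Nat.cast_zero, add_zero] at h1
  haveI := VarietyLib.isRegularLocalRing_stalk_of_smooth k Z q (w (closedPoint k))
  have h2 := IsRegularLocalRing.spanFinrank_maximalIdeal (R := Z.presheaf.stalk (w (closedPoint k)))
  rw [h1, IsLocalRing.spanFinrank_maximalIdeal_eq_finrank_cotangentSpace] at h2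
  exact_mod_cast h2

variable {X S : Scheme.{u}} (x : X ⟶ S) [LocallyOfFiniteType x] [IsLocallyNoetherian X] (E : X.Modules) {Q : Over S}
  {Ku : FGA.QuotSet x E Q} (hQ : FGA.QuotRepresentedBy x E Q Ku) [LocallyOfFiniteType Q.hom]
  (s : Spec (CommRingCat.of k) ⟶ S)

/-- The fibre of the base change. -/
abbrev Xs : Scheme.{u} := PicF.XT x (Over.mk s)

/-- The fibre of the Quot scheme. -/
abbrev Qs (Q : Over S) : Over (Spec (CommRingCat.of k)) := Over.mk (pullback.snd Q.hom s)

theorem hsq : IsPullback (pullback.fst x (Over.mk s).hom) (PicF.XTproj x (Over.mk s)) x s :=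
  IsPullback.of_hasPullback x s

/-- The fibre over the total Quot scheme. -/
abbrev fibMap (Q : Over S) : (Over.map s).obj (Qs s Q) ⟶ Q := Over.homMk (pullback.fst Q.hom s) pullback.condition

include hQ in
/-- The fibre of the Quot scheme represents the Quot functor of the fibre. -/
theorem exists_fibre_represented (g : Over.mk s ⟶ Q) (K₀ : FGA.QuotSet x E (Over.mk s))
    (hg : FGA.quotPull x E g Ku.1 = K₀.1) :
    ∃ (Ks : FGA.QuotSet (PicF.XTproj x (Over.mk s)) ((Scheme.Modules.pullback (pullback.fst x (Over.mk s).hom)).obj E)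
        (Qs s Q))
      (gs : Over.mk (𝟙 (Spec (CommRingCat.of k))) ⟶ Qs s Q)
      (K₁ : FGA.QuotSet (PicF.XTproj x (Over.mk s)) ((Scheme.Modules.pullback (pullback.fst x (Over.mk s).hom)).obj E)
        (Over.mk (𝟙 (Spec (CommRingCat.of k))))),
      FGA.QuotRepresentedBy (PicF.XTproj x (Over.mk s))
        ((Scheme.Modules.pullback (pullback.fst x (Over.mk s).hom)).obj E) (Qs s Q) Ks ∧
      gs.left ≫ pullback.fst Q.hom s = g.left ∧
      FGA.quotPull _ _ gs Ks.1 = K₁.1 ∧
      Quot8.pushBC (hsq x s) E _ K₁.1 =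
        FGA.quotPull x E (Over.homMk (U := (Over.map s).obj (Over.mk (𝟙 (Spec (CommRingCat.of k))))) (V := Over.mk s)
          (𝟙 _) rfl) K₀.1 := by
  haveI := hQ.1
  haveI : LocallyOfFiniteType (PicF.XTproj x (Over.mk s)) :=
    MorphismProperty.pullback_snd (P := @LocallyOfFiniteType) _ _ inferInstance
  haveI : LocallyOfFiniteType (pullback.snd Q.hom s) :=
    MorphismProperty.pullback_snd (P := @LocallyOfFiniteType) _ _ inferInstance
  haveI : IsLocallyNoetherian (Qs s Q).left := LocallyOfFiniteType.isLocallyNoetherian (pullback.snd Q.hom s)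
  haveI hln : ∀ (T : Over (Spec (CommRingCat.of k))) [IsLocallyNoetherian T.left],
      IsLocallyNoetherian ((Over.map s).obj T).left := fun T h => h
  haveI : IsLocallyNoetherian (Over.mk (𝟙 (Spec (CommRingCat.of k)))).left :=
    inferInstanceAs (IsLocallyNoetherian (Spec (CommRingCat.of k)))
  obtain ⟨Km, hKm⟩ := Quot8.exists_quotSet_pull (fibMap s Q) Ku
  obtain ⟨Ks, hKs⟩ := Quot8.exists_pushBC_eq (hsq x s) E (Qs s Q) Km
  have hkey : ∀ (T : Over (Spec (CommRingCat.of k))) (a : T ⟶ Qs s Q),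
      Quot8.pushBC (hsq x s) E T (FGA.quotPull _ _ a Ks.1) =
        FGA.quotPull x E ((Over.map s).map a ≫ fibMap s Q) Ku.1 := fun T a => by
    rw [← Quot8.quotPull_pushBC, hKs, hKm, ← Quot8.quotPull_comp]
  let i : (Over.map s).obj (Over.mk (𝟙 (Spec (CommRingCat.of k)))) ⟶ Over.mk s := Over.homMk (𝟙 _) rfl
  haveI : IsLocallyNoetherian (Over.mk s).left := inferInstanceAs (IsLocallyNoetherian (Spec (CommRingCat.of k)))
  obtain ⟨Ki, hKi⟩ := Quot8.exists_quotSet_pull i K₀
  obtain ⟨K₁, hK₁⟩ := Quot8.exists_pushBC_eq (hsq x s) E (Over.mk (𝟙 (Spec (CommRingCat.of k)))) Ki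
  let gs : Over.mk (𝟙 (Spec (CommRingCat.of k))) ⟶ Qs s Q :=
    Over.homMk (pullback.lift g.left (𝟙 _) ((Over.w g).trans (Category.id_comp _).symm)) (pullback.lift_snd _ _ _)
  refine ⟨Ks, gs, K₁, ⟨inferInstance, fun T hT K => ?_⟩, pullback.lift_fst _ _ _, ?_, hK₁.trans hKi⟩
  · haveI := hT
    obtain ⟨K', hK'⟩ := Quot8.exists_quotSet_pushBC (hsq x s) E T K
    obtain ⟨a, ha, hu⟩ := hQ.2 ((Over.map s).obj T) K'
    let b : T ⟶ Qs s Q := Over.homMk (pullback.lift a.left T.hom (Over.w a)) (pullback.lift_snd _ _ _)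
    have hb : (Over.map s).map b ≫ fibMap s Q = a := Over.OverMorphism.ext (pullback.lift_fst _ _ _)
    refine ⟨b, Quot8.pushBC_injective (hsq x s) E T ?_, fun b' hb' => ?_⟩
    · rw [hkey, hb, ha, hK']
    · have h := hu ((Over.map s).map b' ≫ fibMap s Q) (by
        show FGA.quotPull x E ((Over.map s).map b' ≫ fibMap s Q) Ku.1 = K'.1
        rw [← hkey, show FGA.quotPull _ _ b' Ks.1 = K.1 from hb', hK'])
      refine Over.OverMorphism.ext (pullback.hom_ext ?_ ?_)
      · exact (congrArg (fun m => m.left) h).trans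
          (pullback.lift_fst (f := Q.hom) (g := s) a.left T.hom (Over.w a)).symm
      · exact (Over.w b').trans (pullback.lift_snd _ _ _).symm
  · refine Quot8.pushBC_injective (hsq x s) E _ ?_
    rw [hkey, hK₁, hKi, ← hg, ← Quot8.quotPull_comp]
    refine congrArg (fun m => FGA.quotPull x E m Ku.1) (Over.OverMorphism.ext ?_)
    exact (pullback.lift_fst _ _ _).trans (Category.id_comp _).symm

/-- Homomorphism spaces of the two descriptions of the fibre agree. -/
theorem finrank_hom_eq (K₀ : FGA.QuotSet x E (Over.mk s))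
    (K₁ : FGA.QuotSet (PicF.XTproj x (Over.mk s)) ((Scheme.Modules.pullback (pullback.fst x (Over.mk s).hom)).obj E)
      (Over.mk (𝟙 (Spec (CommRingCat.of k)))))
    (hK₁ : Quot8.pushBC (hsq x s) E _ K₁.1 =
        FGA.quotPull x E (Over.homMk (U := (Over.map s).obj (Over.mk (𝟙 (Spec (CommRingCat.of k))))) (V := Over.mk s)
          (𝟙 _) rfl) K₀.1) :
    (letI : (PicF.XT (PicF.XTproj x (Over.mk s)) (Over.mk (𝟙 (Spec (CommRingCat.of k))))).Over
          (Spec (CommRingCat.of k)) := ⟨PicF.XTproj (PicF.XTproj x (Over.mk s)) (Over.mk (𝟙 (Spec (CommRingCat.of k))))⟩;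
      Module.finrank k (Subobject.underlying.obj K₁.1 ⟶ cokernel K₁.1.arrow)) =
    (letI : (PicF.XT x (Over.mk s)).Over (Spec (CommRingCat.of k)) := ⟨PicF.XTproj x (Over.mk s)⟩;
      Module.finrank k (Subobject.underlying.obj K₀.1 ⟶ cokernel K₀.1.arrow)) := by
  let T₁ : Over (Spec (CommRingCat.of k)) := Over.mk (𝟙 (Spec (CommRingCat.of k)))
  let P₁ := PicF.XT (PicF.XTproj x (Over.mk s)) T₁
  letI inst₁ : P₁.Over (Spec (CommRingCat.of k)) := ⟨PicF.XTproj (PicF.XTproj x (Over.mk s)) T₁⟩
  letI inst₀ : (PicF.XT x (Over.mk s)).Over (Spec (CommRingCat.of k)) := ⟨PicF.XTproj x (Over.mk s)⟩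
  let φ : P₁ ⟶ PicF.XT x (Over.mk s) := pullback.fst (PicF.XTproj x (Over.mk s)) T₁.hom
  haveI : IsIso φ := inferInstanceAs (IsIso (pullback.fst (PicF.XTproj x (Over.mk s)) (𝟙 _)))
  have hφ : φ ≫ PicF.XTproj x (Over.mk s) = PicF.XTproj (PicF.XTproj x (Over.mk s)) T₁ :=
    pullback.condition.trans (Category.comp_id _)
  let i : (Over.map s).obj T₁ ⟶ Over.mk s := Over.homMk (𝟙 _) rfl
  have hun : Quot8.unnest (a := pullback.fst (PicF.XTproj x (Over.mk s)) T₁.hom) (p := pullback.fst x (Over.mk s).hom) K₁.1 =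
      Quot8.rePull (π := pullback.fst x (Over.mk s).hom) (h := φ) rfl K₀.1 := by
    have h := congrArg (Quot8.rePull (Quot8.bcFam_hom_fst (hsq x s) T₁)) hK₁
    rw [Quot8.pushBC, Quot8.quotPull_eq_rePull, Quot8.rePull_comp (Iso.hom_inv_id _) _ _ (Category.id_comp _),
      Quot8.rePull_id rfl] at h
    refine h.trans ?_
    refine Quot8.rePull_comp ?_ _ _ _ _
    refine pullback.hom_ext ?_ ?_
    · rw [Category.assoc, FGA.XTmap_fst, Quot8.bcFam_hom_fst]
    · have h2 : PicF.XTmap x i ≫ pullback.snd x (Over.mk s).hom = PicF.XTproj x ((Over.map s).obj T₁) :=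
        ((FlatMor12.FlatFun.isPullback_XTmap x i).w).trans (Category.comp_id _)
      rw [Category.assoc, h2, Quot8.bcFam_hom_proj]
      exact hφ.symm
  let F := Scheme.Modules.pullback φ
  haveI : F.IsEquivalence := QuotLift.isEquivalence_pullback φ
  haveI : F.Additive := Functor.additive_of_preserves_binary_products F
  obtain ⟨c₁⟩ := Quot8.exists_cokernel_unnest_iso K₁.1
  obtain ⟨c₂⟩ := Quot8.exists_cokernel_rePull_iso (π := pullback.fst x (Over.mk s).hom) (h := φ) rfl K₀.1
  have eN : Nonempty (cokernel K₁.1.arrow ≅ F.obj (cokernel K₀.1.arrow)) := by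
    rw [hun] at c₁
    exact ⟨c₁.symm ≪≫ c₂⟩
  have eM : Nonempty (Subobject.underlying.obj K₁.1 ≅ F.obj (Subobject.underlying.obj K₀.1)) := by
    have a : Subobject.underlying.obj
        (Quot8.unnest (a := pullback.fst (PicF.XTproj x (Over.mk s)) T₁.hom) (p := pullback.fst x (Over.mk s).hom) K₁.1) ≅
          Subobject.underlying.obj K₁.1 :=
      kernelSubobjectIso _ ≪≫ kernelIsIsoComp _ _ ≪≫ (kernelSubobjectIso _).symm ≪≫
        Subobject.isoOfEq _ _ (Quot8.kernelSubobject_cokernel K₁.1)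
    rw [hun] at a
    refine ⟨a.symm ≪≫ kernelSubobjectIso _ ≪≫ ?_⟩
    refine eqToIso (congrArg (fun t => kernel t) (Quot8.quotBC_eq_gen φ _ rfl (cokernel.π K₀.1.arrow))) ≪≫ kernelIsIsoComp _ _ ≪≫
      (PreservesKernel.iso F _).symm ≪≫
      F.mapIso ((kernelSubobjectIso _).symm ≪≫ Subobject.isoOfEq _ _ (Quot8.kernelSubobject_cokernel K₀.1))
  obtain ⟨eN⟩ := eN
  obtain ⟨eM⟩ := eM
  let M₀ := Subobject.underlying.obj K₀.1
  let N₀ := cokernel K₀.1.arrow
  let L : (M₀ ⟶ N₀) →ₗ[k] (F.obj M₀ ⟶ F.obj N₀) :=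
    { toFun := F.map
      map_add' := fun f g => F.map_add
      map_smul' := fun c f => by
        rw [RingHom.id_apply, KLin.smul_def, Formal.smulMod, LiftClass29.smulModΓ_eq_scalarEnd, F.map_comp,
          KLin.smul_def, Formal.smulMod, LiftClass29.smulModΓ_eq_scalarEnd]
        exact congrArg (· ≫ _) (LiftClass29.map_sc hφ M₀ c) }
  exact (((LinearEquiv.ofBijective L ⟨F.map_injective, F.map_surjective⟩).trans
    (Linear.homCongr k eM.symm eN.symm)).finrank_eq).symm

/-- Fibres of closed subschemes of projective space are projective. -/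
theorem exists_projective_fibre {n : ℕ} (c : X ⟶ CohB1.ProjSpaceOver n S) [IsClosedImmersion c] :
    ∃ (N : ℕ) (d : PicF.XT (c ≫ CohB1.ProjSpaceOver.toBase n S) (Over.mk s) ⟶
        CohB1.ProjSpaceOver N (Spec (CommRingCat.of k))),
      IsClosedImmersion d ∧ d ≫ CohB1.ProjSpaceOver.toBase N (Spec (CommRingCat.of k)) =
        PicF.XTproj (c ≫ CohB1.ProjSpaceOver.toBase n S) (Over.mk s) := by
  let H := Quot8.isPn_projSpaceOver n S
  let H' := Quot8.isPn_projSpaceOver n (Spec (CommRingCat.of k))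
  obtain ⟨m, hm₁, hm₂⟩ : ∃ m : CohB1.ProjSpaceOver n (Spec (CommRingCat.of k)) ⟶ CohB1.ProjSpaceOver n S,
      m ≫ Quot8.hG n S = Quot8.hG n (Spec (CommRingCat.of k)) ∧
        m ≫ CohB1.ProjSpaceOver.toBase n S = CohB1.ProjSpaceOver.toBase n (Spec (CommRingCat.of k)) ≫ s := by
    refine ⟨H.lift (Quot8.hG n _) (CohB1.ProjSpaceOver.toBase n (Spec (CommRingCat.of k)) ≫ s) ?_,
      H.lift_fst _ _ _, H.lift_snd _ _ _⟩
    rw [Category.assoc, specULiftZIsTerminal.hom_ext (s ≫ specULiftZIsTerminal.from S)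
      (specULiftZIsTerminal.from (Spec (CommRingCat.of k)))]
    exact H'.w
  have hm : IsPullback m (CohB1.ProjSpaceOver.toBase n (Spec (CommRingCat.of k)))
      (CohB1.ProjSpaceOver.toBase n S) s := H.isPullback_of_comp H' hm₁ hm₂
  let x' := c ≫ CohB1.ProjSpaceOver.toBase n S
  let d := hm.lift (pullback.fst x' s ≫ c) (pullback.snd x' s) (by rw [Category.assoc]; exact pullback.condition)
  refine ⟨n, d, ?_, hm.lift_snd _ _ _⟩
  have h2 : IsPullback (pullback.fst x' s) d c m := by
    refine IsPullback.of_bot ?_ (hm.lift_fst _ _ _).symm hm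
    rw [hm.lift_snd]
    exact IsPullback.of_hasPullback x' s
  exact MorphismProperty.of_isPullback (P := @IsClosedImmersion) h2 inferInstance

omit [LocallyOfFiniteType Q.hom] in
/-- The cotangent space of the fibre of a smooth morphism. -/
theorem finrank_cotangentSpace_fibre [IsAlgClosed k] {g : Over.mk s ⟶ Q} (m : ℕ) (V : Q.left.Opens)
    [SmoothOfRelativeDimension m (V.ι ≫ Q.hom)] (gs : Over.mk (𝟙 (Spec (CommRingCat.of k))) ⟶ Qs s Q)
    (hgs : gs.left ≫ pullback.fst Q.hom s = g.left) (hV : g.left (closedPoint k) ∈ V) :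
    Module.finrank (ResidueField ((Qs s Q).left.presheaf.stalk (gs.left (closedPoint k))))
      (CotangentSpace ((Qs s Q).left.presheaf.stalk (gs.left (closedPoint k)))) = m := by
  let W : (Qs s Q).left.Opens := pullback.fst Q.hom s ⁻¹ᵁ V
  let q : W.toScheme ⟶ Spec (CommRingCat.of k) := W.ι ≫ pullback.snd Q.hom s
  haveI := smoothOfRelativeDimension_isStableUnderBaseChange (n := m)
  haveI : SmoothOfRelativeDimension m q :=
    MorphismProperty.of_isPullback (P := @SmoothOfRelativeDimension m)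
      ((isPullback_morphismRestrict (pullback.fst Q.hom s) V).paste_vert (IsPullback.of_hasPullback Q.hom s))
      inferInstance
  haveI : Smooth q := SmoothOfRelativeDimension.smooth (n := m) q
  have hmem : gs.left (closedPoint k) ∈ W := by
    show (pullback.fst Q.hom s) (gs.left (closedPoint k)) ∈ V
    refine (congrArg (· ∈ V) ?_).mpr hV
    exact congrArg (fun φ : Spec (CommRingCat.of k) ⟶ Q.left => φ (closedPoint k)) hgs
  let w₀ : W.toScheme := ⟨gs.left (closedPoint k), hmem⟩
  have hrange : Set.range gs.left ⊆ Set.range W.ι := by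
    rintro _ ⟨z, rfl⟩
    rw [W.range_ι, show z = closedPoint k from Subsingleton.elim (α := PrimeSpectrum k) _ _]
    exact hmem
  let w : Spec (CommRingCat.of k) ⟶ W.toScheme := IsOpenImmersion.lift W.ι gs.left hrange
  have hw : w ≫ q = 𝟙 _ := by
    rw [← Category.assoc, IsOpenImmersion.lift_fac]
    exact Over.w gs
  have hw₀ : w (closedPoint k) = w₀ := W.ι.isOpenEmbedding.injective (by
    rw [← Scheme.Hom.comp_apply, IsOpenImmersion.lift_fac]
    rfl)
  have h1 := finrank_cotangentSpace_of_smooth q m w hw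
  rw [hw₀] at h1
  haveI := VarietyLib.isRegularLocalRing_stalk_of_smooth k W.toScheme q w₀
  let e := (asIso (W.ι.stalkMap w₀)).commRingCatIsoToRingEquiv
  haveI : IsRegularLocalRing ((Qs s Q).left.presheaf.stalk (W.ι w₀)) := IsRegularLocalRing.of_ringEquiv e.symm
  have h2 := IsRegularLocalRing.spanFinrank_maximalIdeal (R := (Qs s Q).left.presheaf.stalk (W.ι w₀))
  have h3 := IsRegularLocalRing.spanFinrank_maximalIdeal (R := W.toScheme.presheaf.stalk w₀)
  rw [ringKrullDim_eq_of_ringEquiv e, ← h3, IsLocalRing.spanFinrank_maximalIdeal_eq_finrank_cotangentSpace,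
    IsLocalRing.spanFinrank_maximalIdeal_eq_finrank_cotangentSpace, h1] at h2
  exact_mod_cast h2

end Groth.Agent.QuotRel29

end
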