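import Groth.Agent.QuotRel29.Family
import Groth.Agent.S2793
import Groth.Agent.H8Coh.RatTangent
import Groth.Prelude.Def_ArtFun6

/-!
# Smoothness of a relative Quot scheme at a rational point without first extensions
-/

set_option autoImplicit false
set_option backward.isDefEq.respectTransparency false
set_option backward.isDefEq.respectTransparency.types false
set_option linter.style.haveILetI false
set_option linter.unusedSectionVars false

universe u

open CategoryTheory CategoryTheory.Limits AlgebraicGeometry IsLocalRing ArtFun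
open Groth.Agent.ArtFunLib Groth.Agent.ArtFunLib.QuotLift Groth.Agent.H8Coh.RatTangent

noncomputable section

namespace Groth.Agent.QuotRel29

variable {k : Type u} [Field k] {X S : Scheme.{u}} (σ : S ⟶ Spec (CommRingCat.of k)) (x : X ⟶ S)
  [LocallyOfFiniteType x] [IsLocallyNoetherian X] [IsLocallyNoetherian S] {E : X.Modules}
  (hE : Coh.IsCoh E) (hEflat : FlatMod.IsFlatOver x E) {Q : Over S} {Ku : FGA.QuotSet x E Q}
  (hQ : FGA.QuotRepresentedBy x E Q Ku) [LocallyOfFiniteType Q.hom] {s : Spec (CommRingCat.of k) ⟶ S}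
  (hs : s ≫ σ = 𝟙 _) (K₀ : FGA.QuotSet x E (Over.mk s)) (g : Over.mk s ⟶ Q)
  (hg : FGA.quotPull x E g Ku.1 = K₀.1)

include hE hEflat hQ hs hg in
/-- Smoothness near a rational point where the extensions split. -/
theorem exists_smooth_nhd
    (hsplit : Splits (cokernel K₀.1.arrow) (Subobject.underlying.obj K₀.1)) :
    ∃ U : Q.left.Opens, g.left.base (IsLocalRing.closedPoint k) ∈ U ∧ Smooth (U.ι ≫ Q.hom) := by
  haveI := hQ.1
  let gl : Spec (CommRingCat.of k) ⟶ Q.left := g.left
  have hgQ : gl ≫ Q.hom = s := Over.w g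
  have hgp : gl ≫ Q.hom ≫ σ = 𝟙 _ := by rw [← Category.assoc, hgQ, hs]
  refine (Groth.Agent.S2793.result Q.hom (pt gl)).2 ?_
  intro A' _ _ _ h _ I hI hIm g₀ hc hmax hsurj
  let φ : CommRingCat.of k ⟶ S.presheaf.stalk (Q.hom (pt gl)) :=
    Spec.preimage (S.fromSpecStalk (Q.hom (pt gl)) ≫ σ)
  have hφ : (Q.hom.stalkMap (pt gl)).hom.comp φ.hom = ρ (Q.hom ≫ σ) gl := by
    refine congrArg CommRingCat.Hom.hom (Spec.map_injective
      (a₁ := φ ≫ Q.hom.stalkMap (pt gl)) (a₂ := CommRingCat.ofHom (ρ (Q.hom ≫ σ) gl)) ?_)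
    rw [Spec.map_comp, Spec.map_preimage, specMap_ρ, Scheme.SpecMap_stalkMap_fromSpecStalk_assoc]
  letI : Algebra k A' := (h.comp φ.hom).toAlgebra
  have hIle : I ≤ maximalIdeal A' := le_maximalIdeal hI
  have hk : ∀ c, g₀ (ρ (Q.hom ≫ σ) gl c) = Ideal.Quotient.mk I (algebraMap k A' c) := fun c => by
    rw [← hφ]
    exact RingHom.congr_fun hc (φ.hom c)
  have hker : RingHom.ker (Ideal.Quotient.mk I) ≤ maximalIdeal A' := by rw [Ideal.mk_ker]; exact hIle
  have hres : ∀ a' : A', ∃ c : k, a' - algebraMap k A' c ∈ maximalIdeal A' := fun a' => by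
    obtain ⟨o, ho⟩ := hsurj a'
    refine ⟨χ gl o, ?_⟩
    have h1 := hmax _ (sub_mem (Q.hom ≫ σ) gl hgp o)
    rw [map_sub, hk] at h1
    have h2 : Ideal.Quotient.mk I (a' - algebraMap k A' (χ gl o)) ∈ (maximalIdeal A').map (Ideal.Quotient.mk I) := by
      have h3 := Ideal.sub_mem _ h1 ho
      rw [sub_sub_sub_cancel_left, ← map_sub] at h3
      exact h3
    have h4 := Ideal.mem_comap.2 h2
    rwa [Ideal.comap_map_of_surjective' _ Ideal.Quotient.mk_surjective, sup_eq_left.2 hker] at h4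
  let e₀ : k →ₐ[k] ResidueField A' := Algebra.ofId k (ResidueField A')
  have he₀ : Function.Bijective e₀ := ⟨e₀.toRingHom.injective, fun y => by
    obtain ⟨a, rfl⟩ := residue_surjective y
    obtain ⟨c, hc'⟩ := hres a
    refine ⟨c, ?_⟩
    show algebraMap k (ResidueField A') c = residue A' a
    rw [IsScalarTower.algebraMap_apply k A' (ResidueField A'), IsLocalRing.ResidueField.algebraMap_eq, eq_comm,
      ← sub_eq_zero, ← map_sub, residue_eq_zero_iff]
    exact hc'⟩
  let e := AlgEquiv.ofBijective e₀ he₀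
  let r : A' →ₐ[k] k := e.symm.toAlgHom.comp (IsScalarTower.toAlgHom k A' (ResidueField A'))
  let B : Art k k := Art.of A' r (e.symm.surjective.comp residue_surjective)
  let A : Art k k := Art.quot B I hIle
  let q : B ⟶ A := Art.quotMk B I hIle
  let b : Art.spec B ⟶ S := Spec.map (CommRingCat.ofHom h) ≫ S.fromSpecStalk (Q.hom (pt gl))
  let u : Art.spec A ⟶ Q.left := Spec.map (CommRingCat.ofHom g₀) ≫ Q.left.fromSpecStalk (pt gl)
  have hu : u ≫ Q.hom = Art.specMap q ≫ b := by
    show (Spec.map _ ≫ _) ≫ _ = Spec.map _ ≫ Spec.map _ ≫ _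
    rw [Category.assoc, ← Scheme.SpecMap_stalkMap_fromSpecStalk, ← Category.assoc, ← Category.assoc, ← Spec.map_comp,
      ← Spec.map_comp]
    congr 2
    exact CommRingCat.hom_ext hc
  have hcen : Art.specMap (Art.toBase A) ≫ u = gl := by
    show Spec.map _ ≫ Spec.map _ ≫ _ = _
    rw [← Category.assoc, ← Spec.map_comp, ← CommRingCat.ofHom_comp]
    refine Eq.trans ?_ (specMap_χ gl)
    congr 3
    refine RingHom.ext fun o => ?_
    show A.res (g₀ o) = χ gl o
    have h1 : A.res (g₀ (o - ρ (Q.hom ≫ σ) gl (χ gl o))) = 0 := by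
      obtain ⟨m, hm, hm'⟩ := (Ideal.mem_map_iff_of_surjective _ Ideal.Quotient.mk_surjective).1
        (hmax _ (sub_mem (Q.hom ≫ σ) gl hgp o))
      rw [← hm']
      show B.res m = 0
      rw [← Art.mem_maximalIdeal_iff]
      exact hm
    rw [map_sub g₀, hk, map_sub, sub_eq_zero] at h1
    rw [h1]
    exact B.res.commutes _
  have ha : Art.specMap (Art.toBase A) ≫ Art.specMap q ≫ b = s := by
    rw [← hu, ← Category.assoc, hcen, hgQ]
  let uO : Over.mk (Art.specMap q ≫ b) ⟶ Q := Over.homMk u hu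
  haveI := Quot8.isLocallyNoetherian_XT x (T := Over.mk (Art.specMap q ≫ b))
  haveI := Quot8.isLocallyNoetherian_XT x (T := Q)
  haveI := Quot8.epi_bcQ x E uO (cokernel.π Ku.1.arrow)
  let K : FGA.QuotSet x E (Over.mk (Art.specMap q ≫ b)) :=
    Quot8.mkQuot x E (Quot8.bcQ x E uO (cokernel.π Ku.1.arrow)) (ZClosLib.isCoh_pullback _ _ Ku.2.1)
      (fun z => Desc19b.isFlatOverAt_baseChange _ _ _ _ (FlatMor12.FlatFun.isPullback_XTmap x uO) _ z (Ku.2.2 _))
  have hK : K.1 = FGA.quotPull x E uO Ku.1 := by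
    conv_rhs => rw [← Quot8.kernelSubobject_cokernel Ku.1, Quot8.quotPull_kernelSubobject]
    rfl
  have hfib : fibreR x E ha K.1 = K₀.1 := by
    unfold fibreR
    rw [hK, ← Quot8.quotPull_comp, show gB (Art.toBase A) ha ≫ uO = g from Over.OverMorphism.ext hcen, hg]
  have hs' : Splits (cokernel (fibreR x E ha K.1).arrow) (fibreR x E ha K.1) := by
    rw [hfib]; exact hsplit
  obtain ⟨K', hK'⟩ := exists_extension_surjective x E hEflat hE q (Art.quotMk_surjective _ _ _) b _ rfl s ha K hs'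
  obtain ⟨v, hv, -⟩ := hQ.2 (Over.mk b) K'
  have h3 : gB q rfl ≫ v = uO := (hQ.2 (Over.mk (Art.specMap q ≫ b)) K).unique
    ((Quot8.quotPull_comp _ _ _ _ _).trans (by rw [hv, hK'])) hK.symm
  have h4 : Art.specMap q ≫ v.left = u := congrArg (fun m => m.left) h3
  have hpt : v.left (closedPoint A') = pt gl := by
    haveI : IsLocalHom B.res.toRingHom := ⟨fun a ha => notMem_maximalIdeal.1 fun hm => by
      rw [Art.mem_maximalIdeal_iff] at hm
      exact not_isUnit_zero (hm ▸ ha)⟩
    have h0 : Art.specMap (Art.toBase B) (closedPoint k) = closedPoint A' := comap_closedPoint B.res.toRingHom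
    rw [← h0]
    show (Art.specMap (Art.toBase B) ≫ v.left) (closedPoint k) = _
    rw [show Art.specMap (Art.toBase B) = Art.specMap (Art.toBase A) ≫ Art.specMap q by
      rw [← Art.specMap_comp, toBase_comp], Category.assoc, h4, hcen]
    rfl
  obtain ⟨θ, hθ⟩ := exists_lift (R := CommRingCat.of A') v.left _ hpt
  refine ⟨θ.hom, ?_, ?_⟩
  · refine eq_of_specMap ?_
    rw [CommRingCat.ofHom_comp, Spec.map_comp, Category.assoc, CommRingCat.ofHom_hom, CommRingCat.ofHom_hom,
      Scheme.SpecMap_stalkMap_fromSpecStalk, reassoc_of% hθ]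
    exact Over.w v
  · refine eq_of_specMap ?_
    rw [CommRingCat.ofHom_comp, Spec.map_comp, Category.assoc, CommRingCat.ofHom_hom, hθ]
    exact h4

end Groth.Agent.QuotRel29

end
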